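import Cfsg.Agent.H912.CrossList_m3
import Cfsg.Agent.H264.CoverOver
import Cfsg.Agent.S2086
import Cfsg.Agent.S2089
import Cfsg.Agent.S2092
import Cfsg.Agent.S2094
import Cfsg.Agent.S2096
import Cfsg.Agent.S2097
import Cfsg.Agent.S2099
import Cfsg.Agent.S2100
import Cfsg.Agent.S2103
import Cfsg.Agent.S2105
import Cfsg.Agent.S2106
import Cfsg.Agent.S2107
import Cfsg.Agent.S2108
import Cfsg.Agent.S2110
import Cfsg.Agent.S2111
import Cfsg.Agent.S2113
import Cfsg.Agent.S2114
import Mathlib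
import Cfsg.Agent.H936.AltBig2
import Cfsg.Agent.FastGrp
import Cfsg.Agent.Prune
set_option linter.all false

section
prune_inst 0x7f00000000000000000000000000000000000000000000000000000000000000000000000000000000000000000000000000000000000000000000000000000000000000000000000000000000000000003fffffffffffffffffffffffffffbeffbdffffffff

-- part: H912/MultChar
section
set_option linter.all false
open scoped Cfsg.Agent.FastGrp

/-!
# The multiplier of a group of Lie type in characteristic `r` has order prime to `r`, with the known exceptions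

* `NoR r T`: the kernel of every perfect central extension of `T` has order prime to `r`;
* `ExcMult r T`: the list of exceptions; `noR_of_lieTypeChar : IsLieTypeChar r T → ExcMult r T ∨ NoR r T`;
* `PR.of_noR`: for a perfect `P ≤ GL_n(F)` with `P` modulo scalars isomorphic to `T`: `PR F n r T`.
-/

set_option autoImplicit false

universe u v w

namespace Cfsg.Agent.H912.Bd

open Cfsg

/-- The kernel of every perfect central extension of `T` has order prime to `r`. -/
def NoR (r : ℕ) (T : Type v) [Group T] : Prop :=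
  ∀ (P : Type u) [Group P], commutator P = ⊤ → ∀ π : P →* T, Function.Surjective π →
    π.ker ≤ Subgroup.center P → (Nat.card π.ker).Coprime r

theorem NoR.of_mult {r : ℕ} {T : Type v} [Group T] {A : Type w} [CommGroup A] (h : HasSchurMultiplier T A)
    (hA : (Nat.card A).Coprime r) : NoR.{u} r T := by
  intro P _ hP π hπ hc
  exact Nat.Coprime.coprime_dvd_left (H264.CoverOver.card_ker_dvd h hP π hπ hc) hA

theorem NoR.of_cyclic {r : ℕ} {T : Type v} [Group T] {m : ℕ} (h : HasCyclicSchurMultiplier T m)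
    (hm : m.Coprime r) : NoR.{u} r T := by
  refine NoR.of_mult h ?_
  rwa [Nat.card_congr (Multiplicative.toAdd (α := ZMod m)), Nat.card_zmod]

theorem NoR.of_one {r : ℕ} {T : Type v} [Group T] (h : HasCyclicSchurMultiplier T 1) : NoR.{u} r T :=
  NoR.of_cyclic h (Nat.coprime_one_left r)

theorem NoR.congr {r : ℕ} {T : Type v} [Group T] {T' : Type w} [Group T'] (h : NoR.{u} r T') (e : T ≃* T') :
    NoR.{u} r T := by
  intro P _ hP π hπ hc
  have h1 : (e.toMonoidHom.comp π).ker = π.ker := by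
    ext x
    rw [MonoidHom.mem_ker, MonoidHom.mem_ker, MonoidHom.comp_apply]
    exact map_eq_one_iff _ e.injective
  have := h P hP (e.toMonoidHom.comp π) (e.surjective.comp hπ) (by rw [h1]; exact hc)
  rwa [h1] at this

theorem PR.of_noR {F : Type u} [Field F] {n r : ℕ} {T : Type v} [Group T] (h : NoR.{u} r T)
    (P : Subgroup (Matrix.GeneralLinearGroup (Fin n) F)) (hP : ⁅P, P⁆ = P)
    (e : (P ⧸ (Cfsg.Geo.scalars (Fin n) F).subgroupOf P) ≃* T) : PR F n r T := by
  refine PR.of_scalars P e ?_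
  have hker : (e.toMonoidHom.comp (QuotientGroup.mk' ((Cfsg.Geo.scalars (Fin n) F).subgroupOf P))).ker
      = (Cfsg.Geo.scalars (Fin n) F).subgroupOf P := by
    ext x
    rw [MonoidHom.mem_ker, MonoidHom.comp_apply]
    change e _ = 1 ↔ _
    rw [map_eq_one_iff _ e.injective, QuotientGroup.mk'_apply, QuotientGroup.eq_one_iff]
  have hcomm : commutator P = ⊤ := by
    apply Subgroup.map_injective P.subtype_injective
    rw [_root_.commutator_def, Subgroup.map_commutator, ← MonoidHom.range_eq_map, Subgroup.range_subtype, hP]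
  have h1 := h P hcomm (e.toMonoidHom.comp (QuotientGroup.mk' _))
    (e.surjective.comp (QuotientGroup.mk'_surjective ((Cfsg.Geo.scalars (Fin n) F).subgroupOf P))) (by
      rw [hker]
      intro x hx
      rw [Subgroup.mem_center_iff]
      intro y
      exact (Subtype.ext (scalars_comm (Subgroup.mem_subgroupOf.1 hx))).symm)
  rwa [hker] at h1

/-! ### The list of exceptions -/

/-- `PΩ_{2m+1}(q)` -/
def IsOO (m q : ℕ) (T : Type v) [Group T] : Prop :=
  ∃ (K : Type) (_ : Field K) (_ : Fintype K), Fintype.card K = q ∧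
    Nonempty (T ≃* Cfsg.POmega K (Cfsg.quadFormOdd m K))

/-- `G₂(q)` -/
def IsG2 (q : ℕ) (T : Type v) [Group T] : Prop :=
  ∃ (K : Type) (_ : Field K) (_ : Fintype K), Fintype.card K = q ∧ Nonempty (T ≃* Cfsg.Lie.chevG2.group K)

/-- `F₄(q)` -/
def IsF4 (q : ℕ) (T : Type v) [Group T] : Prop :=
  ∃ (K : Type) (_ : Field K) (_ : Fintype K), Fintype.card K = q ∧ Nonempty (T ≃* Cfsg.Lie.chevF4.group K)

/-- `²E₆(q)` -/
def Is2E6 (q : ℕ) (T : Type v) [Group T] : Prop :=
  ∃ (K : Type) (_ : Field K) (_ : Fintype K), Fintype.card K = q ^ 2 ∧ Nonempty (T ≃* Cfsg.Lie.twistedE6 K q)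

/-- `Sz(8)` -/
def IsSz8 (T : Type v) [Group T] : Prop :=
  ∃ (K : Type) (_ : Field K) (_ : Fintype K), Fintype.card K = 8 ∧ Nonempty (T ≃* Cfsg.Lie.Sz K 4)

/-- The groups of Lie type in characteristic `r` with a multiplier of order divisible by `r`. -/
def ExcMult (r : ℕ) (T : Type v) [Group T] : Prop :=
  (r = 2 ∧ (IsL 2 4 T ∨ IsL 3 2 T ∨ IsL 3 4 T ∨ IsL 4 2 T ∨ IsU 4 2 T ∨ IsU 6 2 T ∨ IsS 3 2 T ∨ IsOP 4 2 T ∨
    IsG2 4 T ∨ IsF4 2 T ∨ Is2E6 2 T ∨ IsSz8 T)) ∨
  (r = 3 ∧ (IsL 2 9 T ∨ IsU 4 3 T ∨ IsOO 3 3 T ∨ IsG2 3 T))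

theorem char_dvd_card {r : ℕ} [Fact r.Prime] (K : Type) [Field K] [Fintype K] [CharP K r] : r ∣ Fintype.card K := by
  obtain ⟨k, -, hk⟩ := FiniteField.card K r
  rw [hk]
  exact dvd_pow_self r k.pos.ne'

theorem coprime_gcd_sub {r q n : ℕ} (hr : r.Prime) (hq1 : 0 < q) (hq : r ∣ q) : (Nat.gcd n (q - 1)).Coprime r := by
  rw [Nat.coprime_comm, Nat.Prime.coprime_iff_not_dvd hr]
  intro h
  have h1 : r ∣ q - 1 := h.trans (Nat.gcd_dvd_right _ _)
  have h2 : r ∣ 1 := by
    have := (Nat.dvd_sub hq h1)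
    rwa [Nat.sub_sub_self hq1] at this
  exact hr.one_lt.ne' (Nat.dvd_one.1 h2)

theorem coprime_gcd_add {r q n : ℕ} (hr : r.Prime) (hq : r ∣ q) : (Nat.gcd n (q + 1)).Coprime r := by
  rw [Nat.coprime_comm, Nat.Prime.coprime_iff_not_dvd hr]
  intro h
  have h1 : r ∣ q + 1 := h.trans (Nat.gcd_dvd_right _ _)
  exact hr.one_lt.ne' (Nat.dvd_one.1 ((Nat.dvd_add_right hq).1 h1))

theorem eq_of_dvd_prime_pow {r s k : ℕ} (hr : r.Prime) (hs : s.Prime) (h : r ∣ s ^ k) : r = s :=
  (Nat.prime_dvd_prime_iff_eq hr hs).1 (hr.dvd_of_dvd_pow h)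

variable {r : ℕ} {T : Type v} [Group T]

theorem noR_psl (hr : r.Prime) (h : IsPSLChar r T) : ExcMult r T ∨ NoR.{u} r T := by
  obtain ⟨K, _, _, _, m, hm, hm2, ⟨e⟩⟩ := h
  have : Fact r.Prime := ⟨hr⟩
  have hd : r ∣ Fintype.card K := char_dvd_card K
  by_cases hexc : (m, Fintype.card K) ∈ ({(2, 4), (2, 9), (3, 2), (3, 4), (4, 2)} : Set (ℕ × ℕ))
  · left
    simp only [Set.mem_insert_iff, Set.mem_singleton_iff, Prod.mk.injEq] at hexc
    rcases hexc with ⟨rfl, h⟩ | ⟨rfl, h⟩ | ⟨rfl, h⟩ | ⟨rfl, h⟩ | ⟨rfl, h⟩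
    · exact Or.inl ⟨eq_of_dvd_prime_pow hr Nat.prime_two (k := 2) (by rw [h] at hd; exact hd),
        Or.inl ⟨K, inferInstance, inferInstance, h, ⟨e⟩⟩⟩
    · exact Or.inr ⟨eq_of_dvd_prime_pow hr Nat.prime_three (k := 2) (by rw [h] at hd; exact hd),
        Or.inl ⟨K, inferInstance, inferInstance, h, ⟨e⟩⟩⟩
    · exact Or.inl ⟨eq_of_dvd_prime_pow hr Nat.prime_two (k := 1) (by rw [h] at hd; exact hd),
        Or.inr (Or.inl ⟨K, inferInstance, inferInstance, h, ⟨e⟩⟩)⟩
    · exact Or.inl ⟨eq_of_dvd_prime_pow hr Nat.prime_two (k := 2) (by rw [h] at hd; exact hd),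
        Or.inr (Or.inr (Or.inl ⟨K, inferInstance, inferInstance, h, ⟨e⟩⟩))⟩
    · exact Or.inl ⟨eq_of_dvd_prime_pow hr Nat.prime_two (k := 1) (by rw [h] at hd; exact hd),
        Or.inr (Or.inr (Or.inr (Or.inl ⟨K, inferInstance, inferInstance, h, ⟨e⟩⟩)))⟩
  · right
    exact (NoR.of_cyclic (S2086.result (F := K) rfl m hm hm2 hexc)
      (coprime_gcd_sub hr Fintype.card_pos hd)).congr e

theorem noR_psu (hr : r.Prime) (h : IsPSUChar r T) : ExcMult r T ∨ NoR.{u} r T := by
  obtain ⟨K, _, _, _, m, q, hq, hm, hmq, ⟨e⟩⟩ := h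
  have : Fact r.Prime := ⟨hr⟩
  have hd : r ∣ q := by
    have h1 : r ∣ Fintype.card K := char_dvd_card K
    rw [hq] at h1
    exact hr.dvd_of_dvd_pow h1
  by_cases hexc : (m, q) ∈ ({(4, 2), (4, 3), (6, 2)} : Set (ℕ × ℕ))
  · left
    simp only [Set.mem_insert_iff, Set.mem_singleton_iff, Prod.mk.injEq] at hexc
    rcases hexc with ⟨rfl, rfl⟩ | ⟨rfl, rfl⟩ | ⟨rfl, rfl⟩
    · exact Or.inl ⟨eq_of_dvd_prime_pow hr Nat.prime_two (k := 1) hd,
        Or.inr (Or.inr (Or.inr (Or.inr (Or.inl ⟨K, inferInstance, inferInstance, hq, ⟨e⟩⟩))))⟩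
    · exact Or.inr ⟨eq_of_dvd_prime_pow hr Nat.prime_three (k := 1) hd,
        Or.inr (Or.inl ⟨K, inferInstance, inferInstance, hq, ⟨e⟩⟩)⟩
    · exact Or.inl ⟨eq_of_dvd_prime_pow hr Nat.prime_two (k := 1) hd,
        Or.inr (Or.inr (Or.inr (Or.inr (Or.inr (Or.inl ⟨K, inferInstance, inferInstance, hq, ⟨e⟩⟩)))))⟩
  · right
    exact (NoR.of_cyclic (S2089.result (F := K) m q hq hm hmq hexc) (coprime_gcd_add hr hd)).congr e

theorem noR_psp (hr : r.Prime) (h : IsPSpChar r T) : ExcMult r T ∨ NoR.{u} r T := by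
  obtain ⟨K, _, _, _, m, hm, hm2, ⟨e⟩⟩ := h
  have : Fact r.Prime := ⟨hr⟩
  have hd : r ∣ Fintype.card K := char_dvd_card K
  by_cases hexc : m = 3 ∧ Fintype.card K = 2
  · left
    obtain ⟨rfl, h⟩ := hexc
    exact Or.inl ⟨eq_of_dvd_prime_pow hr Nat.prime_two (k := 1) (by rw [h] at hd; exact hd),
      Or.inr (Or.inr (Or.inr (Or.inr (Or.inr (Or.inr (Or.inl ⟨K, inferInstance, inferInstance, h, ⟨e⟩⟩))))))⟩
  · right
    exact (NoR.of_cyclic (S2092.result (F := K) rfl m hm hm2 hexc)
      (coprime_gcd_sub hr Fintype.card_pos hd)).congr e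

theorem noR_omega_odd (hr : r.Prime) (h : IsPOmegaOddChar r T) : ExcMult r T ∨ NoR.{u} r T := by
  obtain ⟨K, _, _, _, m, hm, hodd, ⟨e⟩⟩ := h
  have : Fact r.Prime := ⟨hr⟩
  have hd : r ∣ Fintype.card K := char_dvd_card K
  by_cases hexc : m = 3 ∧ Fintype.card K = 3
  · left
    obtain ⟨rfl, h⟩ := hexc
    exact Or.inr ⟨eq_of_dvd_prime_pow hr Nat.prime_three (k := 1) (by rw [h] at hd; exact hd),
      Or.inr (Or.inr (Or.inl ⟨K, inferInstance, inferInstance, h, ⟨e⟩⟩))⟩
  · right
    refine (NoR.of_cyclic (S2094.result (F := K) rfl hodd m hm hexc) ?_).congr e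
    rw [Nat.coprime_two_left]
    exact Odd.of_dvd_nat hodd hd

theorem noR_omega_plus (hr : r.Prime) (h : IsPOmegaPlusChar r T) : ExcMult r T ∨ NoR.{u} r T := by
  obtain ⟨K, _, _, _, m, hm, ⟨e⟩⟩ := h
  have : Fact r.Prime := ⟨hr⟩
  have hd : r ∣ Fintype.card K := char_dvd_card K
  have hdm : r ∣ Fintype.card K ^ m := dvd_pow hd (by omega)
  have hpos : 0 < Fintype.card K ^ m := pow_pos Fintype.card_pos _
  rcases Nat.even_or_odd m with hev | hod
  · by_cases hexc : m = 4 ∧ Fintype.card K = 2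
    · left
      obtain ⟨rfl, h⟩ := hexc
      exact Or.inl ⟨eq_of_dvd_prime_pow hr Nat.prime_two (k := 1) (by rw [h] at hd; exact hd),
        Or.inr (Or.inr (Or.inr (Or.inr (Or.inr (Or.inr (Or.inr (Or.inl
          ⟨K, inferInstance, inferInstance, h, ⟨e⟩⟩)))))))⟩
    · right
      refine (NoR.of_mult (S2097.result (F := K) rfl m hm hev hexc) ?_).congr e
      rw [Nat.card_congr Multiplicative.toAdd, Nat.card_prod, Nat.card_zmod]
      have h1 : (Nat.gcd 2 (Fintype.card K ^ m - 1)).Coprime r := coprime_gcd_sub hr hpos hdm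
      exact Nat.Coprime.mul_left h1 h1
  · right
    have h5 : 5 ≤ m := by
      by_contra hcon
      have h4 : m = 4 := by omega
      rw [h4] at hod
      exact absurd hod (by decide)
    exact (NoR.of_cyclic (S2096.result (F := K) rfl m h5 hod) (coprime_gcd_sub hr hpos hdm)).congr e

theorem noR_omega_minus (hr : r.Prime) (h : IsPOmegaMinusChar r T) : NoR.{u} r T := by
  obtain ⟨K, _, _, _, m, a, b, hm, hab, ⟨e⟩⟩ := h
  have : Fact r.Prime := ⟨hr⟩
  have hd : r ∣ Fintype.card K := char_dvd_card K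
  have hdm : r ∣ Fintype.card K ^ m := dvd_pow hd (by omega)
  exact (NoR.of_cyclic (S2099.result (F := K) rfl m hm a b hab) (coprime_gcd_add hr hdm)).congr e

theorem noR_exc (hr : r.Prime) (h : IsExceptionalChevChar r T) : ExcMult r T ∨ NoR.{u} r T := by
  obtain ⟨K, _, _, _, h⟩ := h
  have : Fact r.Prime := ⟨hr⟩
  have hd : r ∣ Fintype.card K := char_dvd_card K
  have hpos : 0 < Fintype.card K := Fintype.card_pos
  rcases h with ⟨h3, ⟨e⟩⟩ | ⟨⟨e⟩⟩ | ⟨⟨e⟩⟩ | ⟨⟨e⟩⟩ | ⟨⟨e⟩⟩
  · by_cases h5 : 5 ≤ Fintype.card K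
    · exact Or.inr ((NoR.of_one (S2100.result h5)).congr e)
    · left
      rcases (show Fintype.card K = 3 ∨ Fintype.card K = 4 by omega) with h | h
      · exact Or.inr ⟨eq_of_dvd_prime_pow hr Nat.prime_three (k := 1) (by rw [h] at hd; exact hd),
          Or.inr (Or.inr (Or.inr ⟨K, inferInstance, inferInstance, h, ⟨e⟩⟩))⟩
      · exact Or.inl ⟨eq_of_dvd_prime_pow hr Nat.prime_two (k := 2) (by rw [h] at hd; exact hd),
          Or.inr (Or.inr (Or.inr (Or.inr (Or.inr (Or.inr (Or.inr (Or.inr (Or.inl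
            ⟨K, inferInstance, inferInstance, h, ⟨e⟩⟩))))))))⟩
  · by_cases h3 : 3 ≤ Fintype.card K
    · exact Or.inr ((NoR.of_one (S2103.result h3)).congr e)
    · left
      have h1 : 1 < Fintype.card K := Fintype.one_lt_card
      have h : Fintype.card K = 2 := by omega
      exact Or.inl ⟨eq_of_dvd_prime_pow hr Nat.prime_two (k := 1) (by rw [h] at hd; exact hd),
          Or.inr (Or.inr (Or.inr (Or.inr (Or.inr (Or.inr (Or.inr (Or.inr (Or.inr (Or.inl
            ⟨K, inferInstance, inferInstance, h, ⟨e⟩⟩)))))))))⟩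
  · exact Or.inr ((NoR.of_cyclic (S2105.result rfl) (coprime_gcd_sub hr hpos hd)).congr e)
  · exact Or.inr ((NoR.of_cyclic (S2106.result rfl) (coprime_gcd_sub hr hpos hd)).congr e)
  · exact Or.inr ((NoR.of_one S2107.result).congr e)

theorem noR_twisted (hr : r.Prime) (h : IsTwistedE6D4Char r T) : ExcMult r T ∨ NoR.{u} r T := by
  obtain ⟨K, _, _, _, q, hq, h⟩ := h
  have : Fact r.Prime := ⟨hr⟩
  have hd0 : r ∣ Fintype.card K := char_dvd_card K
  rcases h with ⟨hK, ⟨e⟩⟩ | ⟨hK, ⟨e⟩⟩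
  · have hd : r ∣ q := by
      rw [hK] at hd0
      exact hr.dvd_of_dvd_pow hd0
    by_cases h2 : q = 2
    · left
      subst h2
      exact Or.inl ⟨eq_of_dvd_prime_pow hr Nat.prime_two (k := 1) hd,
          Or.inr (Or.inr (Or.inr (Or.inr (Or.inr (Or.inr (Or.inr (Or.inr (Or.inr (Or.inr (Or.inl
            ⟨K, inferInstance, inferInstance, hK, ⟨e⟩⟩))))))))))⟩
    · exact Or.inr ((NoR.of_cyclic (S2108.result hq hK h2) (coprime_gcd_add hr hd)).congr e)
  · exact Or.inr ((NoR.of_one (S2110.result hq hK)).congr e)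

/-- **The multiplier in the defining characteristic.** -/
theorem noR_of_lieTypeChar (hr : r.Prime) (h : IsLieTypeChar r T) : ExcMult r T ∨ NoR.{u} r T := by
  rcases h with h | h | h | h | h | h | h | h | h | h | h
  · exact noR_psl hr h
  · exact noR_psp hr h
  · exact noR_psu hr h
  · exact noR_omega_odd hr h
  · exact noR_omega_plus hr h
  · exact Or.inr (noR_omega_minus hr h)
  · exact noR_exc hr h
  · exact noR_twisted hr h
  · obtain ⟨rfl, K, _, _, m, hm, hK, ⟨e⟩⟩ := h
    by_cases h1 : m = 1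
    · left
      subst h1
      exact Or.inl ⟨rfl, Or.inr (Or.inr (Or.inr (Or.inr (Or.inr (Or.inr (Or.inr (Or.inr (Or.inr (Or.inr (Or.inr
            ⟨K, inferInstance, inferInstance, hK, ⟨e⟩⟩))))))))))⟩
    · exact Or.inr ((NoR.of_one (S2111.result (show 2 ≤ m by omega) hK)).congr e)
  · obtain ⟨-, K, _, _, m, hm, hK, ⟨e⟩⟩ := h
    exact Or.inr ((NoR.of_one (S2114.result hm hK)).congr e)
  · obtain ⟨-, K, _, _, m, hm, hK, ⟨e⟩⟩ := h
    exact Or.inr ((NoR.of_one (S2113.result hm hK)).congr e)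

/-- For `r ≥ 5` there are no exceptions. -/
theorem noR_of_five_le (hr : r.Prime) (h5 : 5 ≤ r) (h : IsLieTypeChar r T) : NoR.{u} r T := by
  rcases noR_of_lieTypeChar.{u} hr h with h1 | h1
  · rcases h1 with ⟨rfl, -⟩ | ⟨rfl, -⟩ <;> omega
  · exact h1

end Cfsg.Agent.H912.Bd
end

-- part: H95/LSx/Sub
section
set_option linter.all false
open scoped Cfsg.Agent.FastGrp

/-!
# Lower bounds for degrees, arbitrary kernels: passage to subgroups (helper95, T16)

* `perfect_core` : `φ : Q → X` onto with central kernel, `X` perfect: `[Q,Q]` is perfect and maps onto `X`;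
* `LS.of_hom` : `f : X → T` nontrivial, `X` perfect, `T` simple, `g : X → T₀` onto with central kernel:
  `LS r d T₀ → LS r d T`;
* `LS.of_bd` : `NoR r T`, `Bd k r d T` for all `k` imply `LS r d T`.
-/

set_option autoImplicit false

universe u v w u' x v'

namespace Cfsg.Agent.H95.LSx

open Subgroup Cfsg.Agent.H203.LS Cfsg.Agent.H912.Bd
open scoped commutatorElement

/-- commutators do not see central factors -/
theorem comm_central {G : Type*} [Group G] {a b c d : G} (hc : c ∈ center G) (hd : d ∈ center G) :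
    ⁅a * c, b * d⁆ = ⁅a, b⁆ := by
  have c1 : ∀ g, g * c = c * g := mem_center_iff.1 hc
  have d1 : ∀ g, g * d = d * g := mem_center_iff.1 hd
  rw [commutatorElement_def, commutatorElement_def, mul_inv_rev, mul_inv_rev]
  calc a * c * (b * d) * (c⁻¹ * a⁻¹) * (d⁻¹ * b⁻¹)
      = a * (c * (b * d) * c⁻¹) * a⁻¹ * (d⁻¹ * b⁻¹) := by group
    _ = a * (b * d) * a⁻¹ * (d⁻¹ * b⁻¹) := by rw [← c1 (b * d), mul_inv_cancel_right]
    _ = a * b * (d * (a⁻¹ * d⁻¹)) * b⁻¹ := by group
    _ = a * b * a⁻¹ * b⁻¹ := by rw [← mul_assoc d, ← d1 a⁻¹, mul_inv_cancel_right]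

section

variable {Q : Type*} {X : Type*} [Group Q] [Group X] {φ : Q →* X} (hφ : Function.Surjective φ)
  (hc : φ.ker ≤ center Q) (hX : commutator X = ⊤)

include hφ hX in
theorem exists_core (x : X) : ∃ y ∈ commutator Q, φ y = x := by
  have h : x ∈ (commutator Q).map φ := by
    rw [map_commutator_eq, MonoidHom.range_eq_top.2 hφ]
    have : x ∈ commutator X := by rw [hX]; exact mem_top _
    exact this
  obtain ⟨y, hy, hxy⟩ := h
  exact ⟨y, hy, hxy⟩

include hφ hc hX in
theorem exists_core' (q : Q) : ∃ y ∈ commutator Q, ∃ c ∈ center Q, q = y * c := by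
  obtain ⟨y, hy, hyq⟩ := exists_core hφ hX (φ q)
  refine ⟨y, hy, y⁻¹ * q, hc ?_, (mul_inv_cancel_left _ _).symm⟩
  rw [MonoidHom.mem_ker, map_mul, map_inv, hyq, inv_mul_cancel]

include hφ hc hX in
/-- **The derived group of a central extension of a perfect group is perfect.** -/
theorem core_perfect : commutator (commutator Q) = ⊤ := by
  have h1 : ⁅commutator Q, commutator Q⁆ = commutator Q := by
    apply le_antisymm (commutator_le_self _)
    rw [_root_.commutator_def Q, commutator_le]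
    intro a _ b _
    obtain ⟨y, hy, c, hc', rfl⟩ := exists_core' hφ hc hX a
    obtain ⟨z, hz, d, hd', rfl⟩ := exists_core' hφ hc hX b
    rw [comm_central hc' hd', ← _root_.commutator_def Q]
    exact commutator_mem_commutator hy hz
  apply Subgroup.map_injective (commutator Q).subtype_injective
  rw [_root_.commutator_def (commutator Q), Subgroup.map_commutator, ← MonoidHom.range_eq_map, Subgroup.range_subtype,
    h1]

/-- an element of a perfect group acting centrally modulo the centre is central -/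
theorem mem_center_of_comm {D : Type*} [Group D] (hD : commutator D = ⊤) {z : D}
    (h : ∀ y : D, ⁅z, y⁆ ∈ center D) : z ∈ center D := by
  -- `y ↦ [z, y]` is a homomorphism
  have hh : ∀ a b : D, ⁅z, a * b⁆ = ⁅z, a⁆ * ⁅z, b⁆ := by
    intro a b
    have h1 := mem_center_iff.1 (h b)
    have e1 : ⁅z, a * b⁆ = ⁅z, a⁆ * (a * ⁅z, b⁆ * a⁻¹) := by
      rw [commutatorElement_def, commutatorElement_def, commutatorElement_def]; group
    rw [e1, h1, mul_inv_cancel_right]
  obtain ⟨f, hf⟩ : ∃ f : D →* center D, ∀ y, (f y : D) = ⁅z, y⁆ :=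
    ⟨MonoidHom.mk' (fun y => ⟨⁅z, y⁆, h y⟩) fun a b => Subtype.ext (hh a b), fun _ => rfl⟩
  have hk : commutator D ≤ f.ker := by
    let _ : CommGroup (center D) := { (inferInstance : Group (center D)) with
      mul_comm := fun a b => Subtype.ext (mem_center_iff.1 b.2 a) }
    exact Abelianization.commutator_subset_ker f
  rw [mem_center_iff]
  intro y
  have h1 : y ∈ f.ker := hk (by rw [hD]; exact mem_top _)
  have h2 : ⁅z, y⁆ = 1 := by
    rw [← hf, MonoidHom.mem_ker.1 h1]
    rfl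
  exact (commutatorElement_eq_one_iff_mul_comm.1 h2).symm

end

/-- a nontrivial representation of a perfect central extension of a simple group has its kernel in the kernel of the
extension -/
theorem ker_le_of_ne {P : Type*} {T : Type*} {L : Type*} [Group P] [Group T] [Group L] [IsSimpleGroup T] {π : P →* T}
    (hπ : Function.Surjective π) (hc : π.ker ≤ center P) (hP : commutator P = ⊤) {ρ : P →* L} (hρ : ρ ≠ 1) :
    ρ.ker ≤ π.ker := by
  have hn : (ρ.ker.map π).Normal := ρ.normal_ker.map π hπ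
  rcases hn.eq_bot_or_eq_top with h | h
  · rwa [Subgroup.map_eq_bot_iff] at h
  · exfalso
    apply hρ
    have h1 : ∀ p : P, ∃ k ∈ ρ.ker, ∃ c ∈ center P, p = k * c := by
      intro p
      have h2 : π p ∈ ρ.ker.map π := by rw [h]; exact mem_top _
      obtain ⟨k, hk, hkp⟩ := h2
      refine ⟨k, hk, k⁻¹ * p, hc ?_, (mul_inv_cancel_left _ _).symm⟩
      rw [MonoidHom.mem_ker, map_mul, map_inv, hkp, inv_mul_cancel]
    have h3 : (⊤ : Subgroup P) ≤ ρ.ker := by
      rw [← hP, _root_.commutator_def, commutator_le]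
      intro a _ b _
      obtain ⟨k, hk, c, hc', rfl⟩ := h1 a
      obtain ⟨l, hl, d, hd', rfl⟩ := h1 b
      rw [comm_central hc' hd', MonoidHom.mem_ker, map_commutatorElement, MonoidHom.mem_ker.1 hk,
        MonoidHom.mem_ker.1 hl, commutatorElement_self]
    ext p
    rw [MonoidHom.mem_ker.1 (h3 (mem_top p))]
    rfl

/-- **Passage to (central quotients of) perfect subgroups.** -/
theorem LS.of_hom {r d : ℕ} {T : Type u} [Group T] [IsSimpleGroup T] {X : Type} [Group X] [Finite X]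
    (hX : commutator X = ⊤) (f : X →* T) (hf : f ≠ 1) {T₀ : Type u'} [Group T₀] (g : X →* T₀)
    (hg : Function.Surjective g) (hgc : g.ker ≤ center X) (h : LS.{u', v, w} r d T₀) : LS.{u, v, w} r d T := by
  intro P _ _ π hπ hc hP k _ hk n ρ hρ
  have hker := ker_le_of_ne hπ hc hP hρ
  -- the fibre product
  let Q : Subgroup (X × P) := (f.comp (MonoidHom.fst X P)).eqLocus (π.comp (MonoidHom.snd X P))
  have hQ : ∀ z : Q, f (z : X × P).1 = π (z : X × P).2 := fun z => z.2
  let φ : Q →* X := (MonoidHom.fst X P).comp Q.subtype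
  have hφ : Function.Surjective φ := by
    intro x
    obtain ⟨p, hp⟩ := hπ (f x)
    exact ⟨⟨(x, p), hp.symm⟩, rfl⟩
  have hφc : φ.ker ≤ center Q := by
    intro z hz
    have h1 : (z : X × P).1 = 1 := hz
    have h2 : (z : X × P).2 ∈ center P := hc (by rw [MonoidHom.mem_ker, ← hQ z, h1, map_one])
    rw [mem_center_iff]
    intro y
    refine Subtype.ext (Prod.ext ?_ ?_)
    · show (y : X × P).1 * (z : X × P).1 = (z : X × P).1 * (y : X × P).1
      rw [h1, mul_one, one_mul]
    · exact mem_center_iff.1 h2 _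
  have hDp := core_perfect hφ hφc hX
  let ψ : commutator Q →* T₀ := g.comp (φ.comp (commutator Q).subtype)
  refine h (commutator Q) ψ ?_ ?_ hDp k hk n (ρ.comp ((MonoidHom.snd X P).comp (Q.subtype.comp (commutator Q).subtype)))
    ?_
  · intro t
    obtain ⟨x, hx⟩ := hg t
    obtain ⟨y, hy, hyx⟩ := exists_core hφ hX x
    exact ⟨⟨y, hy⟩, by show g (φ y) = t; rw [hyx, hx]⟩
  · intro z hz
    apply mem_center_of_comm hDp
    intro y
    have h1 : φ (z : Q) ∈ center X := hgc hz
    have h2 : φ ((⁅z, y⁆ : commutator Q) : Q) = 1 := by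
      show φ ⁅(z : Q), (y : Q)⁆ = 1
      rw [map_commutatorElement, commutatorElement_eq_one_iff_mul_comm]
      exact (mem_center_iff.1 h1 _).symm
    have h3 := hφc (MonoidHom.mem_ker.2 h2)
    rw [mem_center_iff] at h3 ⊢
    intro t
    exact Subtype.ext (h3 t)
  · intro hcon
    obtain ⟨x, hx⟩ : ∃ x, f x ≠ 1 := by
      by_contra hcon'
      push Not at hcon'
      exact hf (MonoidHom.ext hcon')
    obtain ⟨y, hy, hyx⟩ := exists_core hφ hX x
    have h1 := DFunLike.congr_fun hcon ⟨y, hy⟩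
    have h2 : (y : X × P).2 ∈ π.ker := hker (MonoidHom.mem_ker.2 h1)
    rw [MonoidHom.mem_ker, ← hQ y] at h2
    exact hx (by rw [← hyx]; exact h2)

/-- from subgroups -/
theorem LS.of_sub {r d : ℕ} {T : Type u} [Group T] [IsSimpleGroup T] {X : Type} [Group X] [Finite X] [Nontrivial X]
    (hX : commutator X = ⊤) (f : X →* T) (hf : Function.Injective f) (h : LS.{0, v, w} r d X) :
    LS.{u, v, w} r d T := by
  refine LS.of_hom hX f ?_ (MonoidHom.id X) Function.surjective_id ?_ h
  · rintro rfl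
    obtain ⟨a, b, hab⟩ := exists_pair_ne X
    exact hab (hf rfl)
  · intro x hx
    have : x = 1 := hx
    rw [this]
    exact one_mem _

/-- **Central quotients of perfect groups, second form**: `g : X → T₀` onto with central kernel, `T₀` perfect and not
trivial, `f : X → T` with central kernel. -/
theorem LS.of_hom_center {r d : ℕ} {T : Type u} [Group T] [IsSimpleGroup T] {X : Type} [Group X] [Finite X]
    {T₀ : Type u'} [Group T₀] [Nontrivial T₀] (hT₀ : commutator T₀ = ⊤) (g : X →* T₀)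
    (hg : Function.Surjective g) (hgc : g.ker ≤ center X) (f : X →* T) (hf : f.ker ≤ center X)
    (h : LS.{u', v, w} r d T₀) : LS.{u, v, w} r d T := by
  have hD := core_perfect hg hgc hT₀
  refine LS.of_hom hD (f.comp (commutator X).subtype) ?_ (g.comp (commutator X).subtype) ?_ ?_ h
  · intro hcon
    obtain ⟨t, ht⟩ := exists_ne (1 : T₀)
    apply ht
    -- `T₀` is abelian
    have h1 : ∀ a b : T₀, ⁅a, b⁆ = 1 := by
      intro a b
      obtain ⟨x, hx, rfl⟩ := exists_core hg hT₀ a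
      obtain ⟨y, rfl⟩ := hg b
      have h2 : x ∈ center X := hf (MonoidHom.mem_ker.2 (DFunLike.congr_fun hcon ⟨x, hx⟩))
      rw [← map_commutatorElement, commutatorElement_eq_one_iff_mul_comm.2 (mem_center_iff.1 h2 y).symm, map_one]
    have h3 : commutator T₀ = ⊥ := by
      rw [_root_.commutator_def, eq_bot_iff, commutator_le]
      intro a _ b _
      rw [mem_bot, h1]
    have h4 : t ∈ commutator T₀ := by rw [hT₀]; exact mem_top t
    rwa [h3, mem_bot] at h4
  · intro t
    obtain ⟨y, hy, hyt⟩ := exists_core hg hT₀ t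
    exact ⟨⟨y, hy⟩, hyt⟩
  · intro z hz
    have h1 : (z : X) ∈ center X := hgc hz
    rw [mem_center_iff] at h1 ⊢
    intro y
    exact Subtype.ext (h1 y)

/-- **From the bounds for kernels of order prime to `r`.** -/
theorem LS.of_bd {r d : ℕ} {T : Type u} [Group T] [IsSimpleGroup T] (hN : NoR.{w, u} r T)
    (hB : ∀ (k : Type w) [Field k], (r : k) ≠ 0 → Bd k r d T) : LS.{u, w, w} r d T := by
  intro P _ _ π hπ hc hP k _ hk n ρ hρ
  refine hB k hk n ⟨P, inferInstance, π, ρ, hπ, fun x hx y => ?_, hN P hP π hπ hc, ker_le_of_ne hπ hc hP hρ⟩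
  exact (mem_center_iff.1 (hc (MonoidHom.mem_ker.2 hx)) y).symm

/-- perfectness is inherited by homomorphic images -/
theorem perfect_of_surj {G H : Type*} [Group G] [Group H] (hG : commutator G = ⊤) {f : G →* H}
    (hf : Function.Surjective f) : commutator H = ⊤ := by
  rw [_root_.commutator_def, ← MonoidHom.range_eq_top.2 hf, ← map_commutator_eq, hG, ← MonoidHom.range_eq_map]

/-- the universe of the extensions is irrelevant -/
theorem LS.univ {r d : ℕ} {T : Type u} [Group T] (h : LS.{u, v', w} r d T) : LS.{u, v, w} r d T := by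
  intro P _ _ π hπ hc hP k _ hk n ρ hρ
  have : Small.{v'} P := inferInstance
  let e : Shrink.{v'} P ≃* P := Shrink.mulEquiv
  have : Finite (Shrink.{v'} P) := Finite.of_equiv P e.symm.toEquiv
  refine h (Shrink.{v'} P) (π.comp e.toMonoidHom) (hπ.comp e.surjective) ?_ ?_ k hk n (ρ.comp e.toMonoidHom) ?_
  · intro x hx
    have h1 : e x ∈ center P := hc hx
    rw [mem_center_iff] at h1 ⊢
    intro y
    apply e.injective
    rw [map_mul, map_mul]
    exact h1 _
  · exact perfect_of_surj hP (f := e.symm.toMonoidHom) e.symm.surjective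
  · intro hcon
    apply hρ
    ext x
    have h1 := DFunLike.congr_fun hcon (e.symm x)
    simp only [MonoidHom.comp_apply, MulEquiv.coe_toMonoidHom, MulEquiv.apply_symm_apply] at h1
    rw [h1]
    rfl

end Cfsg.Agent.H95.LSx
end
end
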